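import Mathlib
import Groth.Agent.CAlg48.SepGen

/-!
# A discrete valuation ring with prescribed residue field and rational fraction field
-/

set_option autoImplicit false
set_option linter.style.haveILetI false

universe u

open scoped Polynomial TensorProduct

noncomputable section

namespace Groth.Agent.RetractRat95

theorem isReduced_monoidAlgebra {R : Type*} [CommRing R] [IsReduced R] {M : Type*} [CommMonoid M]
    [IsCancelMul M] [UniqueProds M] : IsReduced (MonoidAlgebra R M) := by
  constructor
  intro x hx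
  refine MonoidAlgebra.ext (Finsupp.ext fun m => ?_)
  have key : ∀ p : Ideal R, p.IsPrime → x.coeff m ∈ p := fun p hp => by
    have h0 : MonoidAlgebra.mapRingHom M (Ideal.Quotient.mk p) x = 0 :=
      (hx.map _).eq_zero
    have h1 := congrArg (fun y => y.coeff m) h0
    simp at h1
    exact Ideal.Quotient.eq_zero_iff_mem.mp h1
  have : x.coeff m ∈ nilradical R := by
    rw [nilradical_eq_sInf]
    exact Submodule.mem_sInf.mpr fun p hp => key p hp
  simpa [nilradical_eq_zero] using this

section DVR

variable (k L : Type u) [Field k] [Field L] [Algebra k L] [Algebra.EssFiniteType k L]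
  [Algebra.IsGeometricallyReduced k L]

open IntermediateField.algebraAdjoinAdjoin in
theorem exists_eval : ∃ (n : ℕ) (θ : MvPolynomial (Fin n) k →ₐ[k] L),
    (∃ q : MvPolynomial (Fin n) k, q ≠ 0 ∧ θ q = 0 ∧
      ∀ g, θ g = 0 → ∃ c, θ c ≠ 0 ∧ q ∣ c * g) ∧
    ∀ z : L, ∃ a b, θ b ≠ 0 ∧ z = θ a / θ b := by
  classical
  obtain ⟨s, hs, hsep⟩ := CAlg48.SepGen.exists_separating k L
  let K0 := IntermediateField.adjoin k (s : Set L)
  let R := Algebra.adjoin k (s : Set L)
  haveI : Algebra.IsSeparable K0 L := hsep
  haveI : Algebra.IsAlgebraic K0 L := Algebra.IsSeparable.isAlgebraic K0 L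
  haveI : Algebra.EssFiniteType K0 L := Algebra.EssFiniteType.of_comp k K0 L
  haveI : Module.Finite K0 L := Algebra.finite_of_essFiniteType_of_isAlgebraic
  obtain ⟨α, hα⟩ := Field.exists_primitive_element K0 L
  have hint : IsIntegral K0 α := Algebra.IsIntegral.isIntegral α
  let m := minpoly K0 α
  let e0 : MvPolynomial (s : Set L) k ≃ₐ[k] R :=
    hs.1.aevalEquiv.trans (Subalgebra.equivOfEq _ _ (by
      show Algebra.adjoin k _ = Algebra.adjoin k _
      congr 1
      exact Subtype.range_coe))
  let E : R[X] ≃ₐ[k] MvPolynomial (Fin (Fintype.card (Option (s : Set L)))) k :=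
    (Polynomial.mapAlgEquiv e0.symm).trans
      ((MvPolynomial.optionEquivLeft k (s : Set L)).symm.trans
        (MvPolynomial.renameEquiv k (Fintype.equivFin (Option (s : Set L)))))
  let φ : R[X] →ₐ[k] L := (Polynomial.aeval α).restrictScalars k
  let Φ : R[X] →+* K0[X] := Polynomial.mapRingHom (algebraMap R K0)
  have hΦ : Function.Injective Φ :=
    Polynomial.map_injective _ (IsFractionRing.injective R K0)
  have hφΦ : ∀ g, φ g = Polynomial.aeval α (Φ g) := fun g =>
    (Polynomial.aeval_map_algebraMap K0 α g).symm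
  have hφC : ∀ r : R, φ (Polynomial.C r) = algebraMap R L r := fun r => Polynomial.aeval_C α r
  have hRL : Function.Injective (algebraMap R L) := Subtype.val_injective
  have hclear : ∀ p : K0[X], ∃ b : R, b ≠ 0 ∧ ∃ p' : R[X],
      Φ p' = Polynomial.C (algebraMap R K0 b) * p := fun p => by
    obtain ⟨b, hb, h⟩ := IsLocalization.integerNormalization_spec (nonZeroDivisors R) p
    refine ⟨b, nonZeroDivisors.ne_zero hb, _, h.trans ?_⟩
    rw [Algebra.smul_def]
    rfl
  obtain ⟨b₀, hb₀, q, hq⟩ := hclear m
  refine ⟨_, φ.comp E.symm.toAlgHom, ⟨E q, ?_, ?_, ?_⟩, ?_⟩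
  · intro h
    have h' : q = 0 := E.injective (h.trans (map_zero E).symm)
    rw [h', map_zero] at hq
    have := mul_eq_zero.mp hq.symm
    rcases this with h1 | h1
    · exact hb₀ ((injective_iff_map_eq_zero _).mp (IsFractionRing.injective R K0) _
        (Polynomial.C_eq_zero.mp h1))
    · exact minpoly.ne_zero hint h1
  · show φ (E.symm (E q)) = 0
    rw [E.symm_apply_apply, hφΦ, hq, map_mul, minpoly.aeval, mul_zero]
  · intro g hg
    change φ (E.symm g) = 0 at hg
    rw [hφΦ] at hg
    obtain ⟨h, hh⟩ := minpoly.dvd K0 α hg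
    obtain ⟨b, hb, h', hh'⟩ := hclear h
    refine ⟨E (Polynomial.C (b₀ * b)), ?_, ?_⟩
    · show φ (E.symm (E (Polynomial.C (b₀ * b)))) ≠ 0
      rw [E.symm_apply_apply, hφC]
      exact fun h0 => mul_ne_zero hb₀ hb ((injective_iff_map_eq_zero _).mp hRL _ h0)
    · rw [← E.apply_symm_apply g, ← map_mul]
      refine map_dvd E ⟨h', hΦ ?_⟩
      rw [map_mul Φ (Polynomial.C _), map_mul Φ q, hq, hh', hh]
      simp only [Φ, Polynomial.coe_mapRingHom, Polynomial.map_C, map_mul]
      ring
  · intro z
    have hz : z ∈ (IntermediateField.adjoin K0 {α}).toSubalgebra := by rw [hα]; trivial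
    rw [IntermediateField.adjoin_simple_toSubalgebra_of_isAlgebraic hint.isAlgebraic,
      Algebra.adjoin_singleton_eq_range_aeval] at hz
    obtain ⟨p, rfl⟩ := hz
    obtain ⟨b, hb, p', hp'⟩ := hclear p
    have hb' : algebraMap R L b ≠ 0 := fun h0 => hb ((injective_iff_map_eq_zero _).mp hRL _ h0)
    refine ⟨E p', E (Polynomial.C b), ?_, ?_⟩
    · show φ (E.symm (E (Polynomial.C b))) ≠ 0
      rw [E.symm_apply_apply, hφC]
      exact hb'
    · show _ = φ (E.symm (E p')) / φ (E.symm (E (Polynomial.C b)))
      rw [E.symm_apply_apply, E.symm_apply_apply, hφC, hφΦ, hp', map_mul, Polynomial.aeval_C,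
        ← IsScalarTower.algebraMap_apply R K0 L, mul_div_cancel_left₀ _ hb']
      rfl

end DVR

section Factor

variable {k : Type u} [Field k] {P K : Type u} [CommRing P] [IsDomain P] [CommRing K] [Algebra k P]
  [Algebra k K] [Algebra P K] [IsScalarTower k P K] {M : Submonoid P} [IsLocalization M K]

/-- The map from a smaller localisation. -/
def awayTo (b : P) (hb : b ∈ M) : Localization.Away b →ₐ[k] K :=
  IsLocalization.liftAlgHom (M := Submonoid.powers b) (f := IsScalarTower.toAlgHom k P K) fun y =>
    IsLocalization.map_units K (⟨(y : P), (Submonoid.powers_le.mpr hb) y.2⟩ : M)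

theorem awayTo_algebraMap (b : P) (hb : b ∈ M) (a : P) :
    awayTo (k := k) (K := K) b hb (algebraMap P (Localization.Away b) a) = algebraMap P K a :=
  IsLocalization.lift_eq _ _

theorem awayTo_injective (hM : M ≤ nonZeroDivisors P) (b : P) (hb : b ∈ M) :
    Function.Injective (awayTo (k := k) (K := K) b hb) := by
  refine (IsLocalization.lift_injective_iff _).mpr fun x y => ?_
  constructor
  · intro h
    have h1 := congrArg (awayTo (k := k) (K := K) b hb) h
    rwa [awayTo_algebraMap, awayTo_algebraMap] at h1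
  · intro h
    rw [IsLocalization.injective K hM h]

/-- A map from a finitely generated algebra into a localisation has a single denominator. -/
theorem exists_factor (hM : M ≤ nonZeroDivisors P) {X : Type u} [CommRing X] [Algebra k X]
    [Algebra.FiniteType k X] (f : X →ₐ[k] K) :
    ∃ (b : P) (hb : b ∈ M) (f' : X →ₐ[k] Localization.Away b),
      (awayTo (k := k) (K := K) b hb).comp f' = f := by
  classical
  obtain ⟨S, hS⟩ := Algebra.FiniteType.out (R := k) (A := X)
  obtain ⟨⟨b, hb⟩, hint⟩ := IsLocalization.exist_integer_multiples_of_finset M (S.image f)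
  let j := awayTo (k := k) (K := K) b hb
  have hj := awayTo_injective (k := k) (K := K) hM b hb
  have hrange : f.range ≤ j.range := by
    rw [← Algebra.map_top, ← hS, AlgHom.map_adjoin, Algebra.adjoin_le_iff]
    rintro _ ⟨x, hx, rfl⟩
    obtain ⟨a, ha⟩ := hint (f x) (Finset.mem_image_of_mem f hx)
    refine ⟨IsLocalization.mk' _ a (⟨b, Submonoid.mem_powers b⟩ : Submonoid.powers b), ?_⟩
    refine (IsLocalization.map_units K (⟨b, hb⟩ : M)).mul_left_cancel ?_
    show algebraMap P K b * j _ = algebraMap P K b * f x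
    rw [← Algebra.smul_def b (f x), ← ha, ← awayTo_algebraMap (k := k) (K := K) b hb b,
      ← map_mul, mul_comm, IsLocalization.mk'_spec, awayTo_algebraMap]
  refine ⟨b, hb, (AlgEquiv.ofInjective j hj).symm.toAlgHom.comp
    ((Subalgebra.inclusion hrange).comp f.rangeRestrict), AlgHom.ext fun x => ?_⟩
  show j ((AlgEquiv.ofInjective j hj).symm _) = f x
  exact congrArg Subtype.val ((AlgEquiv.ofInjective j hj).apply_symm_apply _)

end Factor

end Groth.Agent.RetractRat95
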